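import Mathlib.LinearAlgebra.Eigenspace.Triangularizable
import Mathlib.LinearAlgebra.Dimension.Finite
import Mathlib.LinearAlgebra.Dimension.Constructions
import Mathlib.LinearAlgebra.Determinant
import Mathlib.LinearAlgebra.Matrix.GeneralLinearGroup.Defs
import Mathlib.LinearAlgebra.Matrix.ToLin
import Mathlib.FieldTheory.IsAlgClosed.AlgebraicClosure
import Mathlib.GroupTheory.Commutator.Basic
import Mathlib.GroupTheory.Abelianization.Defs
import Mathlib.RingTheory.RootsOfUnity.PrimitiveRoots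
import Mathlib.Data.Nat.Prime.Basic

/-!
# A lower bound for the degrees of representations (helper789)

`G` has commuting elements `z`, `w` of order `p`, an element `s` centralizing `z` with `s w s⁻¹ = w z`, a
subgroup `Q` centralizing `z` and `w` with `z ∈ [Q, Q]`, and `z` is conjugate to all its nontrivial powers.
Then every linear representation of `G` over a field of characteristic different from `p` in which `z` acts
nontrivially has degree at least `p ^ 2 (p - 1)`.
-/

set_option autoImplicit false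

namespace Cfsg.Agent.H789.Exo

open Module

/-- data for the lower bound for the degrees of representations -/
structure RepData (p : ℕ) {G : Type*} [Group G] (z w s : G) (Q : Subgroup G) : Prop where
  z_ne : z ≠ 1
  z_pow : z ^ p = 1
  w_pow : w ^ p = 1
  zw : Commute z w
  sz : Commute s z
  sw : s * w * s⁻¹ = w * z
  Qz : ∀ q ∈ Q, Commute q z
  Qw : ∀ q ∈ Q, Commute q w
  z_mem : z ∈ ⁅Q, Q⁆
  rat : ∀ a : ℕ, ¬ p ∣ a → ∃ g : G, g * z * g⁻¹ = z ^ a

section

variable {k : Type*} [Field k] {V : Type*} [AddCommGroup V] [Module k V] [FiniteDimensional k V]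

/-- dimensions of independent subspaces -/
theorem mul_card_le_finrank {ι : Type*} [Fintype ι] {E : ι → Submodule k V} (hE : iSupIndep E)
    {A : Submodule k V} (hA : ∀ i, E i ≤ A) {d : ℕ}
    (hd : ∀ i, d ≤ finrank k (E i)) : Fintype.card ι * d ≤ finrank k A := by
  classical
  have h1 := hE.dfinsupp_lsum_injective
  have h2 := LinearMap.finrank_range_of_inj h1
  have h3 : finrank k (Π₀ i, E i) = ∑ i, finrank k (E i) := Module.finrank_directSum (R := k) (fun i => E i)
  have h4 : finrank k (LinearMap.range ((DFinsupp.lsum ℕ (M := fun i => ↥(E i))) fun i => (E i).subtype)) ≤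
      finrank k A := by
    apply Submodule.finrank_mono
    rintro _ ⟨v, rfl⟩
    rw [DFinsupp.lsum_apply_apply, DFinsupp.sumAddHom_apply]
    exact Submodule.sum_mem _ fun i _ => hA i (v i).2
  rw [h2, h3] at h4
  refine le_trans ?_ h4
  calc Fintype.card ι * d = ∑ _i : ι, d := by simp
    _ ≤ ∑ i, finrank k (E i) := Finset.sum_le_sum fun i _ => hd i

variable {p : ℕ} {G : Type*} [Group G] {z w s : G} {Q : Subgroup G}

/-- the simultaneous eigenspaces of `z` and `w` -/
def EE (ρ : G →* Module.End k V) (z w : G) (ζ μ : k) : Submodule k V :=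
  (ρ z).eigenspace ζ ⊓ (ρ w).eigenspace μ

omit [FiniteDimensional k V] in
theorem mem_EE {ρ : G →* Module.End k V} {z w : G} {ζ μ : k} {v : V} :
    v ∈ EE ρ z w ζ μ ↔ ρ z v = ζ • v ∧ ρ w v = μ • v := by
  rw [EE, Submodule.mem_inf, Module.End.mem_eigenspace_iff, Module.End.mem_eigenspace_iff]

omit [FiniteDimensional k V] in
theorem dvd_finrank (h : RepData p z w s Q) (ρ : G →* Module.End k V) {ζ : k} (hζ : IsPrimitiveRoot ζ p)
    (μ : k) : p ∣ finrank k (EE ρ z w ζ μ) := by
  classical
  have hst : ∀ q ∈ Q, ∀ v ∈ EE ρ z w ζ μ, ρ q v ∈ EE ρ z w ζ μ := by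
    intro q hq v hv
    rw [mem_EE] at hv ⊢
    constructor
    · have h1 : ρ z (ρ q v) = ρ q (ρ z v) := by
        rw [← Module.End.mul_apply, ← Module.End.mul_apply, ← map_mul, ← map_mul, (h.Qz q hq).eq]
      rw [h1, hv.1, map_smul]
    · have h1 : ρ w (ρ q v) = ρ q (ρ w v) := by
        rw [← Module.End.mul_apply, ← Module.End.mul_apply, ← map_mul, ← map_mul, (h.Qw q hq).eq]
      rw [h1, hv.2, map_smul]
  let f : Q →* Module.End k (EE ρ z w ζ μ) :=
    { toFun := fun q => (ρ (q : G)).restrict (hst q q.2)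
      map_one' := by ext v; simp
      map_mul' := by intro a b; ext v; simp }
  let φ : Q →* k := LinearMap.det.comp f
  let φ' : Q →* kˣ := φ.toHomUnits
  have hzQ : z ∈ Q := (Subgroup.commutator_le_self Q) h.z_mem
  have h1 : (⟨z, hzQ⟩ : Q) ∈ _root_.commutator Q := by
    have h2 := h.z_mem
    rw [← Subgroup.map_subtype_commutator] at h2
    obtain ⟨y, hy, hyz⟩ := h2
    have : y = ⟨z, hzQ⟩ := Subtype.ext hyz
    rwa [← this]
  have h2 : φ' ⟨z, hzQ⟩ = 1 := by
    have h3 : _root_.commutator Q ≤ φ'.ker := Abelianization.commutator_subset_ker φ'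
    exact h3 h1
  have h3 : φ ⟨z, hzQ⟩ = 1 := by
    have := congrArg Units.val h2
    simpa [φ'] using this
  have h4 : f ⟨z, hzQ⟩ = ζ • LinearMap.id := by
    ext v
    have := (mem_EE.mp v.2).1
    simpa [f] using this
  have h5 : φ ⟨z, hzQ⟩ = ζ ^ finrank k (EE ρ z w ζ μ) := by
    show LinearMap.det (f ⟨z, hzQ⟩) = _
    rw [h4, LinearMap.det_smul, LinearMap.det_id, mul_one]
  rw [h3] at h5
  exact hζ.dvd_of_pow_eq_one _ h5.symm

omit [FiniteDimensional k V] in
theorem EE_shift (h : RepData p z w s Q) (ρ : G →* Module.End k V) {ζ μ : k} (hne : EE ρ z w ζ μ ≠ ⊥) :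
    EE ρ z w ζ (μ * ζ) ≠ ⊥ := by
  obtain ⟨v, hv, hv0⟩ := Submodule.exists_mem_ne_zero_of_ne_bot hne
  rw [mem_EE] at hv
  intro hb
  have h1 : ρ s⁻¹ v ∈ EE ρ z w ζ (μ * ζ) := by
    rw [mem_EE]
    constructor
    · rw [← Module.End.mul_apply, ← map_mul, ← (h.sz.inv_left).eq, map_mul, Module.End.mul_apply, hv.1, map_smul]
    · have h2 : w * s⁻¹ = s⁻¹ * (w * z) := by rw [← h.sw]; group
      rw [← Module.End.mul_apply, ← map_mul, h2, map_mul, map_mul, Module.End.mul_apply, Module.End.mul_apply,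
        hv.1, map_smul, hv.2, map_smul, map_smul, smul_smul, mul_comm]
  rw [hb, Submodule.mem_bot] at h1
  apply hv0
  have h2 : ρ s (ρ s⁻¹ v) = v := by
    rw [← Module.End.mul_apply, ← map_mul, mul_inv_cancel, map_one, Module.End.one_apply]
  rw [← h2, h1, map_zero]

omit [FiniteDimensional k V] in
theorem EE_shift_pow (h : RepData p z w s Q) (ρ : G →* Module.End k V) {ζ μ : k} (hne : EE ρ z w ζ μ ≠ ⊥)
    (j : ℕ) : EE ρ z w ζ (μ * ζ ^ j) ≠ ⊥ := by
  induction j with
  | zero => simpa using hne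
  | succ j ih =>
    rw [pow_succ, ← mul_assoc]
    exact EE_shift h ρ ih

/-- all the simultaneous eigenspaces are nonzero -/
theorem EE_ne_bot [IsAlgClosed k] (hp : p.Prime) (h : RepData p z w s Q) (ρ : G →* Module.End k V) {ζ μ : k}
    (hζ : IsPrimitiveRoot ζ p) (hne : (ρ z).eigenspace ζ ≠ ⊥) (hμ : μ ^ p = 1) : EE ρ z w ζ μ ≠ ⊥ := by
  -- an eigenvector of `w`
  have hst : ∀ v ∈ (ρ z).eigenspace ζ, ρ w v ∈ (ρ z).eigenspace ζ := by
    intro v hv
    rw [Module.End.mem_eigenspace_iff] at hv ⊢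
    rw [← Module.End.mul_apply, ← map_mul, h.zw.eq, map_mul, Module.End.mul_apply, hv, map_smul]
  have : Nontrivial ((ρ z).eigenspace ζ) := Submodule.nontrivial_iff_ne_bot.mpr hne
  obtain ⟨ν, hν⟩ := Module.End.exists_eigenvalue ((ρ w).restrict hst)
  obtain ⟨v, hv⟩ := hν.exists_hasEigenvector
  have hv1 : ρ w (v : V) = ν • (v : V) := by
    have := congrArg Subtype.val hv.apply_eq_smul
    simpa using this
  have hv0 : (v : V) ≠ 0 := fun h0 => hv.2 (Subtype.ext h0)
  have hvz : ρ z (v : V) = ζ • (v : V) := Module.End.mem_eigenspace_iff.mp v.2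
  have hpow : ∀ n : ℕ, ρ (w ^ n) (v : V) = ν ^ n • (v : V) := by
    intro n
    induction n with
    | zero => simp
    | succ n ih =>
      rw [pow_succ', map_mul, Module.End.mul_apply, ih, map_smul, hv1, smul_smul, ← pow_succ]
  have hνp : ν ^ p = 1 := by
    have h1 := hpow p
    rw [h.w_pow, map_one, Module.End.one_apply] at h1
    have h2 : (ν ^ p - 1) • (v : V) = 0 := by rw [sub_smul, one_smul, ← h1, sub_self]
    rcases smul_eq_zero.mp h2 with h3 | h3
    · exact sub_eq_zero.mp h3
    · exact absurd h3 hv0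
  have hEν : EE ρ z w ζ ν ≠ ⊥ := by
    intro hb
    apply hv0
    have : (v : V) ∈ EE ρ z w ζ ν := mem_EE.mpr ⟨hvz, hv1⟩
    rwa [hb, Submodule.mem_bot] at this
  -- `μ = ν ζ ^ j`
  have hν0 : ν ≠ 0 := by
    rintro rfl
    rw [zero_pow hp.ne_zero] at hνp
    exact zero_ne_one hνp
  have : NeZero p := ⟨hp.ne_zero⟩
  obtain ⟨j, -, hj⟩ := hζ.eq_pow_of_pow_eq_one (ξ := ν⁻¹ * μ) (by rw [mul_pow, inv_pow, hνp, hμ]; simp)
  have h2 := EE_shift_pow h ρ hEν j
  rwa [hj, mul_inv_cancel_left₀ hν0] at h2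

/-- **The degree bound**, over an algebraically closed field. -/
theorem le_finrank [IsAlgClosed k] (hp : p.Prime) (hk : (p : k) ≠ 0) (h : RepData p z w s Q)
    (ρ : G →* Module.End k V) (hρ : ρ z ≠ 1) : p ^ 2 * (p - 1) ≤ finrank k V := by
  have : NeZero p := ⟨hp.ne_zero⟩
  have : Fact p.Prime := ⟨hp⟩
  -- an eigenvalue different from `1`
  obtain ⟨ζ, hζ1, hζp, hζE⟩ : ∃ ζ : k, ζ ≠ 1 ∧ ζ ^ p = 1 ∧ (ρ z).eigenspace ζ ≠ ⊥ := by
    have hst : ∀ v ∈ LinearMap.range (ρ z - 1), ρ z v ∈ LinearMap.range (ρ z - 1) := by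
      rintro _ ⟨u, rfl⟩
      refine ⟨ρ z u, ?_⟩
      simp [LinearMap.sub_apply, map_sub]
    have hne : LinearMap.range (ρ z - 1) ≠ ⊥ := by
      intro hb
      rw [LinearMap.range_eq_bot, sub_eq_zero] at hb
      exact hρ hb
    have : Nontrivial (LinearMap.range (ρ z - 1)) := Submodule.nontrivial_iff_ne_bot.mpr hne
    obtain ⟨ζ, hζ⟩ := Module.End.exists_eigenvalue ((ρ z).restrict hst)
    obtain ⟨v, hv⟩ := hζ.exists_hasEigenvector
    have hv1 : ρ z (v : V) = ζ • (v : V) := by
      have := congrArg Subtype.val hv.apply_eq_smul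
      simpa using this
    have hv0 : (v : V) ≠ 0 := fun h0 => hv.2 (Subtype.ext h0)
    have hpow : ∀ n : ℕ, ρ (z ^ n) (v : V) = ζ ^ n • (v : V) := by
      intro n
      induction n with
      | zero => simp
      | succ n ih =>
        rw [pow_succ', map_mul, Module.End.mul_apply, ih, map_smul, hv1, smul_smul, ← pow_succ]
    refine ⟨ζ, ?_, ?_, ?_⟩
    · rintro rfl
      obtain ⟨u, hu⟩ := v.2
      have hu' : ρ z u = u + (v : V) := by
        rw [← hu]; simp
      rw [one_smul] at hv1
      have hn : ∀ n : ℕ, ρ (z ^ n) u = u + n • (v : V) := by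
        intro n
        induction n with
        | zero => simp
        | succ n ih =>
          rw [pow_succ', map_mul, Module.End.mul_apply, ih, map_add, map_nsmul, hv1, hu', succ_nsmul]
          abel
      have h1 := hn p
      rw [h.z_pow, map_one, Module.End.one_apply] at h1
      have h2 : p • (v : V) = 0 := by
        have := h1.symm
        rwa [add_eq_left] at this
      rw [← Nat.cast_smul_eq_nsmul k] at h2
      rcases smul_eq_zero.mp h2 with h3 | h3
      · exact hk h3
      · exact hv0 h3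
    · have h1 := hpow p
      rw [h.z_pow, map_one, Module.End.one_apply] at h1
      have h2 : (ζ ^ p - 1) • (v : V) = 0 := by rw [sub_smul, one_smul, ← h1, sub_self]
      rcases smul_eq_zero.mp h2 with h3 | h3
      · exact sub_eq_zero.mp h3
      · exact absurd h3 hv0
    · intro hb
      apply hv0
      have : (v : V) ∈ (ρ z).eigenspace ζ := Module.End.mem_eigenspace_iff.mpr hv1
      rwa [hb, Submodule.mem_bot] at this
  have hprim : IsPrimitiveRoot ζ p := by
    have h1 := IsPrimitiveRoot.orderOf ζ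
    rwa [orderOf_eq_prime hζp hζ1] at h1
  -- the eigenspaces of `z`
  have hnd : ∀ a : Fin (p - 1), ¬ p ∣ (a : ℕ) + 1 := fun a ha =>
    absurd (Nat.le_of_dvd (Nat.succ_pos _) ha) (by have := a.2; omega)
  have hA : ∀ a : Fin (p - 1), (ρ z).eigenspace (ζ ^ ((a : ℕ) + 1)) ≠ ⊥ := by
    intro a hb
    obtain ⟨g, hg⟩ := h.rat ((a : ℕ) + 1) (hnd a)
    obtain ⟨v, hv, hv0⟩ := Submodule.exists_mem_ne_zero_of_ne_bot hζE
    rw [Module.End.mem_eigenspace_iff] at hv
    have hpow : ∀ n : ℕ, ρ (z ^ n) v = ζ ^ n • v := by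
      intro n
      induction n with
      | zero => simp
      | succ n ih =>
        rw [pow_succ', map_mul, Module.End.mul_apply, ih, map_smul, hv, smul_smul, ← pow_succ]
    have h1 : ρ g⁻¹ v ∈ (ρ z).eigenspace (ζ ^ ((a : ℕ) + 1)) := by
      rw [Module.End.mem_eigenspace_iff]
      have h2 : z * g⁻¹ = g⁻¹ * z ^ ((a : ℕ) + 1) := by rw [← hg]; group
      rw [← Module.End.mul_apply, ← map_mul, h2, map_mul, Module.End.mul_apply, hpow, map_smul]
    rw [hb, Submodule.mem_bot] at h1
    apply hv0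
    have h2 : ρ g (ρ g⁻¹ v) = v := by
      rw [← Module.End.mul_apply, ← map_mul, mul_inv_cancel, map_one, Module.End.one_apply]
    rw [← h2, h1, map_zero]
  have hAd : ∀ a : Fin (p - 1), p * p ≤ finrank k ((ρ z).eigenspace (ζ ^ ((a : ℕ) + 1))) := by
    intro a
    have hpr : IsPrimitiveRoot (ζ ^ ((a : ℕ) + 1)) p :=
      hprim.pow_of_coprime _ ((Nat.coprime_comm.mp ((Nat.Prime.coprime_iff_not_dvd hp).mpr (hnd a))))
    have hinj : Function.Injective (fun b : Fin p => ζ ^ (b : ℕ)) := fun b c hbc =>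
      Fin.ext (hprim.pow_inj b.2 c.2 hbc)
    have hE : iSupIndep (fun b : Fin p => EE ρ z w (ζ ^ ((a : ℕ) + 1)) (ζ ^ (b : ℕ))) :=
      (((ρ w).eigenspaces_iSupIndep).comp hinj).mono fun b => inf_le_right
    have h1 := mul_card_le_finrank hE (A := (ρ z).eigenspace (ζ ^ ((a : ℕ) + 1))) (fun b => inf_le_left) (d := p)
      (fun b => by
        have h2 := EE_ne_bot hp h ρ hpr (hA a) (μ := ζ ^ (b : ℕ))
          (by rw [← pow_mul, mul_comm, pow_mul, hζp, one_pow])
        refine Nat.le_of_dvd ?_ (dvd_finrank h ρ hpr _)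
        rw [Nat.pos_iff_ne_zero]
        intro h3
        exact h2 (Submodule.finrank_eq_zero.mp h3))
    rwa [Fintype.card_fin] at h1
  have hinj : Function.Injective (fun a : Fin (p - 1) => ζ ^ ((a : ℕ) + 1)) := fun b c hbc => by
    have := hprim.pow_inj (i := (b : ℕ) + 1) (j := (c : ℕ) + 1) (by have := b.2; omega)
      (by have := c.2; omega) hbc
    exact Fin.ext (by omega)
  have h1 := mul_card_le_finrank (((ρ z).eigenspaces_iSupIndep).comp hinj) (A := ⊤) (fun _ => le_top) hAd
  rw [Fintype.card_fin, finrank_top] at h1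
  calc p ^ 2 * (p - 1) = (p - 1) * (p * p) := by ring
    _ ≤ _ := h1

/-- **The degree bound** for matrix representations over an arbitrary field of characteristic not `p`. -/
theorem le_card (hp : p.Prime) (hk : (p : k) ≠ 0) (h : RepData p z w s Q) {ι : Type*} [Fintype ι] [DecidableEq ι]
    (f : G →* Matrix ι ι k) (hf : f z ≠ 1) : p ^ 2 * (p - 1) ≤ Fintype.card ι := by
  let K := AlgebraicClosure k
  let g : Matrix ι ι k →+* Matrix ι ι K := (algebraMap k K).mapMatrix
  let e : Matrix ι ι K ≃ₐ[K] Module.End K (ι → K) := Matrix.toLinAlgEquiv'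
  let ρ : G →* Module.End K (ι → K) := (e : Matrix ι ι K →* Module.End K (ι → K)).comp ((g : Matrix ι ι k →* Matrix ι ι K).comp f)
  have h1 := le_finrank hp (k := K) (V := ι → K) (by
    intro h0
    apply hk
    have h2 : algebraMap k K (p : k) = 0 := by rw [map_natCast]; exact h0
    exact (map_eq_zero (algebraMap k K)).mp h2) h ρ (by
    intro h0
    apply hf
    have h2 : g (f z) = 1 := e.injective (by rw [map_one]; exact h0)
    have h3 : Function.Injective g := Matrix.map_injective (algebraMap k K).injective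
    exact h3 (by rw [h2, map_one]))
  rwa [Module.finrank_fintype_fun_eq_card] at h1

/-- **The degree bound** for representations over an arbitrary field of characteristic not `p`. -/
theorem le_finrank' (hp : p.Prime) (hk : (p : k) ≠ 0) (h : RepData p z w s Q) (ρ : G →* Module.End k V)
    (hρ : ρ z ≠ 1) : p ^ 2 * (p - 1) ≤ finrank k V := by
  classical
  let b := Module.finBasis k V
  let e := LinearMap.toMatrixAlgEquiv b
  let f : G →* Matrix (Fin (finrank k V)) (Fin (finrank k V)) k :=
    (e.toMulEquiv.toMonoidHom : Module.End k V →* Matrix (Fin (finrank k V)) (Fin (finrank k V)) k).comp ρ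
  have h1 := le_card hp hk h f (by
    intro h0
    apply hρ
    have h2 : e (ρ z) = 1 := h0
    exact e.injective (by rw [map_one]; exact h2))
  rwa [Fintype.card_fin] at h1

end

end Cfsg.Agent.H789.Exo
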