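import Cfsg.Agent.H789.Exo.Weights
import Cfsg.Agent.Lib.NormalAbelian
import Mathlib.GroupTheory.SpecificGroups.Cyclic

/-!
# Groups of maximal class with nonabelian `Γ₁ = C(Z₂)` (helper789)

Center, abelian subgroups, commutator quotient.
-/

set_option autoImplicit false

namespace Cfsg.Agent.H789.Exo

open Cfsg Cfsg.Agent.H467.MaxClass Cfsg.Agent.H766
open scoped commutatorElement

universe u

variable {P : Type u} [Group P] {p n : ℕ}

theorem Ksub_all [Finite P] (h : MC P p n (chain P)) [hp : Fact p.Prime] (hp3 : 3 ≤ p)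
    (hK : h.Ksub (n - 2) = chain P 1) (i : ℕ) (h1 : 1 ≤ i) (h2 : i + 2 ≤ n) : h.Ksub i = chain P 1 := by
  by_cases h3 : i + 3 ≤ n
  · exact h.Ksub_eq hp3 h1 h3
  · have : i = n - 2 := by omega
    rw [this, hK]

theorem exists_depth [Finite P] (h : MC P p n (chain P)) {z : P} (hz : z ≠ 1) :
    ∃ k, k < n ∧ z ∈ chain P k ∧ z ∉ chain P (k + 1) := by
  obtain ⟨k, hk1, hk2⟩ : ∃ k, z ∈ chain P k ∧ z ∉ chain P (k + 1) := by
    by_contra hno
    push Not at hno
    have h1 : ∀ k, z ∈ chain P k := by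
      intro k
      induction k with
      | zero => rw [chain_zero]; trivial
      | succ k ih => exact hno k ih
    have h2 := h1 n
    rw [h.bot_of_le le_rfl, Subgroup.mem_bot] at h2
    exact hz h2
  refine ⟨k, ?_, hk1, hk2⟩
  by_contra h5
  rw [h.bot_of_le (by omega), Subgroup.mem_bot] at hk1
  exact hz hk1

/-- the center -/
theorem center_eq [Finite P] (h : MC P p n (chain P)) [hp : Fact p.Prime] (hp3 : 3 ≤ p)
    (hK : h.Ksub (n - 2) = chain P 1) : Subgroup.center P = chain P (n - 1) := by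
  have h4 := h.four_le
  apply le_antisymm
  · intro z hz
    rw [Subgroup.mem_center_iff] at hz
    by_cases hz1 : z = 1
    · rw [hz1]; exact one_mem _
    obtain ⟨k, hkn, hk1, hk2⟩ := exists_depth h hz1
    by_cases hk : k = n - 1
    · rw [← hk]; exact hk1
    exfalso
    obtain ⟨y, hy0, hy⟩ := h.ne_succ (i := 0) (by omega)
    rw [zero_add] at hy
    by_cases hk0 : k = 0
    · obtain ⟨a, ha, ha'⟩ := h.ne_succ (i := 1) (by omega)
      subst hk0
      apply hk2
      rw [zero_add, ← Ksub_all h hp3 hK 1 le_rfl (by omega)]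
      refine (h.mem_K_iff (i := 1) (by omega) ha ha' z).2 ?_
      have h1 : ⁅a, z⁆ = 1 := commutatorElement_eq_one_iff_mul_comm.2 (hz a)
      rw [h1]
      exact one_mem _
    · apply hy
      rw [← Ksub_all h hp3 hK k (by omega) (by omega)]
      refine (h.mem_K_iff (i := k) (by omega) hk1 hk2 y).2 ?_
      have h1 : ⁅z, y⁆ = 1 := commutatorElement_eq_one_iff_mul_comm.2 (hz y).symm
      rw [h1]
      exact one_mem _
  · intro z hz
    rw [Subgroup.mem_center_iff]
    intro g
    exact (h.center_le hz g).symm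

theorem card_center [Finite P] (h : MC P p n (chain P)) [hp : Fact p.Prime] (hp3 : 3 ≤ p)
    (hK : h.Ksub (n - 2) = chain P 1) : Nat.card (Subgroup.center P) = p := by
  have h4 := h.four_le
  rw [center_eq h hp3 hK]
  have := h.card_W 1 (by omega)
  rwa [pow_one] at this

theorem index_commutator [Finite P] (h : MC P p n (chain P)) [hp : Fact p.Prime] :
    (_root_.commutator P).index = p ^ 2 := by
  have h4 := h.four_le
  have h1 : _root_.commutator P = chain P 2 := by rw [_root_.commutator_def, h.comm_top]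
  have h2 := h.card_W (n - 2) (by omega)
  rw [show n - (n - 2) = 2 by omega] at h2
  have h3 := Subgroup.card_mul_index (chain P 2)
  rw [h2, h.card_group] at h3
  rw [h1]
  have h5 : p ^ n = p ^ (n - 2) * p ^ 2 := by rw [← pow_add]; congr 1; omega
  rw [h5] at h3
  exact Nat.eq_of_mul_eq_mul_left (pow_pos hp.out.pos _) h3

theorem lcs_ne_bot [Finite P] (h : MC P p n (chain P)) [hp : Fact p.Prime] :
    (⊤ : Subgroup P).lowerCentralSeries (n - 2) ≠ ⊥ := by
  have h4 := h.four_le
  have h1 : chain P (n - 1) = (⊤ : Subgroup P).lowerCentralSeries (n - 2) := by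
    rw [chain_of_two_le (by omega), show n - 1 - 1 = n - 2 by omega]
  rw [← h1]
  intro h2
  have h3 := h.card_W 1 (by omega)
  rw [h2, Subgroup.card_bot, pow_one] at h3
  exact hp.out.one_lt.ne h3

/-- abelian subgroups -/
theorem card_abelian_le [Finite P] (h : MC P p n (chain P)) [hp : Fact p.Prime] (hn : 5 ≤ n) (hp3 : 3 ≤ p)
    (hK : h.Ksub (n - 2) = chain P 1) (hna : ∃ a ∈ chain P 1, ∃ b ∈ chain P 1, ⁅a, b⁆ ≠ 1)
    (A : Subgroup P) (hA : ∀ a ∈ A, ∀ b ∈ A, a * b = b * a) : Nat.card A ≤ p ^ (n - 2) := by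
  have hcard := h.card_group
  have hdvd : Nat.card A ∣ p ^ n := by rw [← hcard]; exact Subgroup.card_subgroup_dvd_card _
  obtain ⟨k, hk, hAk⟩ := (Nat.dvd_prime_pow hp.out).1 hdvd
  rw [hAk]
  apply Nat.pow_le_pow_right hp.out.pos
  by_contra hlt
  -- `A` contains the commutator subgroup
  have hidx : A.index = p ^ (n - k) := by
    have h1 := Subgroup.card_mul_index A
    rw [hAk, hcard] at h1
    have h2 : p ^ n = p ^ k * p ^ (n - k) := by rw [← pow_add]; congr 1; omega
    rw [h2] at h1
    exact Nat.eq_of_mul_eq_mul_left (pow_pos hp.out.pos _) h1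
  have hPG : IsPGroup p P := IsPGroup.of_card hcard
  have hle : chain P 2 ≤ A := by
    rw [← h.comm_top, ← _root_.commutator_def]
    by_cases hkn : k = n
    · rw [hkn, Nat.sub_self, pow_zero, Subgroup.index_eq_one] at hidx
      rw [hidx]
      exact le_top
    · have hk1 : n - k = 1 := by omega
      rw [hk1, pow_one] at hidx
      have hmin : (Nat.card P).minFac = p := by
        rw [hcard]
        exact (Nat.Prime.pow_minFac hp.out (by omega))
      have hnorm : A.Normal := Subgroup.normal_of_index_eq_minFac_card (by rw [hmin]; exact hidx)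
      have hq : Nat.card (P ⧸ A) = p := hidx
      have hcyc : IsCyclic (P ⧸ A) := isCyclic_of_prime_card hq
      rw [_root_.commutator_def, Subgroup.commutator_le]
      intro a _ b _
      rw [← QuotientGroup.eq_one_iff]
      change (QuotientGroup.mk' A) ⁅a, b⁆ = 1
      rw [map_commutatorElement, commutatorElement_eq_one_iff_mul_comm]
      have := hcyc.commGroup
      obtain ⟨g, hg⟩ := hcyc.exists_generator
      obtain ⟨i, hi⟩ := Subgroup.mem_zpowers_iff.1 (hg ((QuotientGroup.mk' A) a))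
      obtain ⟨j, hj⟩ := Subgroup.mem_zpowers_iff.1 (hg ((QuotientGroup.mk' A) b))
      rw [← hi, ← hj, ← zpow_add, ← zpow_add, add_comm]
  -- `A ≤ W 1`
  have hA1 : A ≤ chain P 1 := by
    rw [← Ksub_all h hp3 hK 2 (by norm_num) (by omega)]
    intro a ha
    rw [h.mem_Ksub]
    intro w hw
    have h1 : ⁅w, a⁆ = 1 := commutatorElement_eq_one_iff_mul_comm.2 (hA w (hle hw) a ha)
    rw [h1]
    exact one_mem _
  have hW1 := h.card_W (n - 1) (by omega)
  rw [show n - (n - 1) = 1 by omega] at hW1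
  have hAW : A = chain P 1 := by
    apply Subgroup.eq_of_le_of_card_ge hA1
    rw [hW1, hAk]
    exact Nat.pow_le_pow_right hp.out.pos (by omega)
  obtain ⟨a, ha, b, hb, hab⟩ := hna
  rw [← hAW] at ha hb
  exact hab (commutatorElement_eq_one_iff_mul_comm.2 (hA a ha b hb))

/-- representation data in `P` -/
theorem exists_repElements [Finite P] (h : MC P p n (chain P)) [hp : Fact p.Prime] (hn : 5 ≤ n) (hp3 : 3 ≤ p)
    (hK : h.Ksub (n - 2) = chain P 1) (hna : ∃ a ∈ chain P 1, ∃ b ∈ chain P 1, ⁅a, b⁆ ≠ 1) :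
    ∃ z w s : P, z ≠ 1 ∧ z ^ p = 1 ∧ w ^ p = 1 ∧ Commute z w ∧ Commute s z ∧ s * w * s⁻¹ = w * z ∧
      (∀ q ∈ chain P 1, Commute q z) ∧ (∀ q ∈ chain P 1, Commute q w) ∧ z ∈ ⁅chain P 1, chain P 1⁆ ∧
      z ∈ chain P (n - 1) := by
  obtain ⟨s, hs0, hs⟩ := h.ne_succ (i := 0) (by omega)
  rw [zero_add] at hs
  obtain ⟨w, hw, hw'⟩ := h.ne_succ (i := n - 2) (by omega)
  rw [show n - 2 + 1 = n - 1 by omega] at hw'
  set z : P := w⁻¹ * (s * w * s⁻¹) with hz
  have hsw : s * w * s⁻¹ = w * z := by rw [hz]; group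
  have hzW : z ∈ chain P (n - 1) := by
    have h1 := h.comm_mem' (i := n - 2) (x := w⁻¹ * s) hw
    have h2 : z = w⁻¹ * ⁅s, w⁆ * (w⁻¹)⁻¹ := by rw [hz, commutatorElement_def]; group
    rw [h2]
    have h3 := h.comm_mem' (i := n - 2) (x := s) hw
    rw [show n - 2 + 1 = n - 1 by omega] at h3
    exact h.conj_mem h3 _
  have hz1 : z ≠ 1 := by
    intro h1
    rw [h1, mul_one, mul_inv_eq_iff_eq_mul] at hsw
    apply hs
    rw [← hK]
    refine (h.mem_K_iff (i := n - 2) (by omega) hw (by rwa [show n - 2 + 1 = n - 1 by omega]) s).2 ?_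
    have h2 : ⁅w, s⁆ = 1 := commutatorElement_eq_one_iff_mul_comm.2 hsw.symm
    rw [h2]
    exact one_mem _
  have hzc : ∀ g, Commute z g := fun g => h.center_le hzW g
  have hzp : z ^ p = 1 := by
    have h1 := pow_mem_succ h (i := n - 1) (by omega) hzW
    rwa [show n - 1 + 1 = n by omega, h.bot_of_le le_rfl, Subgroup.mem_bot] at h1
  have hwp : w ^ p = 1 := by
    have h1 := h.pow_mem hp3 (j := n - 2) (by omega) hw
    rwa [h.bot_of_le (by omega), Subgroup.mem_bot] at h1
  have hKw : ∀ q ∈ chain P 1, Commute q w := by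
    intro q hq
    rw [← hK, h.mem_Ksub] at hq
    have h1 := hq w hw
    rw [h.bot_of_le (by omega), Subgroup.mem_bot, commutatorElement_eq_one_iff_mul_comm] at h1
    exact h1.symm
  -- the commutator subgroup of `W 1` meets the center
  have hcomm : z ∈ ⁅chain P 1, chain P 1⁆ := by
    have hn1 : (chain P 1).Normal := h.normal 1
    have hn2 : (⁅chain P 1, chain P 1⁆).Normal := inferInstance
    obtain ⟨a, ha, b, hb, hab⟩ := hna
    have hmem : ⁅a, b⁆ ∈ ⁅chain P 1, chain P 1⁆ := Subgroup.commutator_mem_commutator ha hb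
    have hPG : IsPGroup p P := IsPGroup.of_card h.card_group
    have hnil : Group.IsNilpotent P := hPG.isNilpotent
    have hne : (⁅chain P 1, chain P 1⁆ : Subgroup P) ≠ ⊥ := by
      intro h1
      rw [h1, Subgroup.mem_bot] at hmem
      exact hab hmem
    have h2 := Cfsg.Agent.Lib.NormalAbelian.normal_inf_center_ne_bot (⁅chain P 1, chain P 1⁆) hne
    -- the center has prime order
    have hcc : Nat.card (Subgroup.center P) = p := card_center h hp3 hK
    have h3 : Subgroup.center P ≤ ⁅chain P 1, chain P 1⁆ := by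
      have h5 : Nat.card (⁅chain P 1, chain P 1⁆ ⊓ Subgroup.center P : Subgroup P) ∣ Nat.card (Subgroup.center P) :=
        Subgroup.card_dvd_of_le inf_le_right
      rw [hcc, Nat.dvd_prime hp.out] at h5
      rcases h5 with h5 | h5
      · exact absurd (Subgroup.card_eq_one.1 h5) h2
      · have h6 : (⁅chain P 1, chain P 1⁆ ⊓ Subgroup.center P : Subgroup P) = Subgroup.center P :=
          Subgroup.eq_of_le_of_card_ge inf_le_right (by rw [h5, hcc])
        rw [← h6]
        exact inf_le_left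
    apply h3
    rw [center_eq h hp3 hK]
    exact hzW
  exact ⟨z, w, s, hz1, hzp, hwp, hzc w, (hzc s).symm, hsw, fun q _ => (hzc q).symm, hKw, hcomm, hzW⟩

end Cfsg.Agent.H789.Exo
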