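import Cfsg.Agent.H789.Exo.FusA
import Cfsg.Agent.H789.Exo.GrpFacts
import Cfsg.Agent.H789.Exo.Defs

/-!
# Finite groups realizing a fusion system with abelian pearls on a nonexceptional group of maximal class (helper789)

`Ctx.pearly` : such groups satisfy `Pearly p n`.
-/

set_option autoImplicit false

namespace Cfsg.Agent.H789.Exo

open Cfsg Cfsg.FusionSystem Cfsg.Agent.H802
open Cfsg.Agent.H467.MaxClass Cfsg.Agent.H766
open scoped commutatorElement

universe u v

variable {Ω : Type u} [Group Ω] {S : Subgroup Ω}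

section model

variable {F : FusionSystem S} {p : ℕ} [hp : Fact p.Prime] [Finite S] {G : Type v} [Group G] [Finite G]

omit [Finite S] in
/-- `p`-subgroups of `G` are conjugate to subgroups of `ι(S)`. -/
theorem exists_embed {ι : S →* G} (hι : Function.Injective ι) {T : Sylow p G} (hT : (T : Subgroup G) = ι.range)
    {R : Subgroup G} (hR : IsPGroup p R) :
    ∃ (h : G) (f : R →* S), Function.Injective f ∧ ∀ r : R, ι (f r) = h * r * h⁻¹ := by
  obtain ⟨Q, hQ⟩ := hR.exists_le_sylow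
  obtain ⟨h, hh⟩ := MulAction.exists_smul_eq G Q T
  have h1 : ∀ r : R, h * (r : G) * h⁻¹ ∈ ι.range := by
    intro r
    rw [← hT, ← hh]
    exact ⟨r, hQ r.2, rfl⟩
  let e : S ≃* ι.range := MonoidHom.ofInjective hι
  let f₀ : R →* ι.range := ((MulAut.conj h).toMonoidHom.comp R.subtype).codRestrict _ h1
  let f : R →* S := e.symm.toMonoidHom.comp f₀
  have hf : ∀ r : R, ι (f r) = h * r * h⁻¹ := by
    intro r
    have h2 : ((e (f r) : ι.range) : G) = h * r * h⁻¹ := by
      change ((e (e.symm (f₀ r)) : ι.range) : G) = _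
      rw [e.apply_symm_apply]
      rfl
    exact h2
  refine ⟨h, f, ?_, hf⟩
  intro a b hab
  have h2 : h * (a : G) * h⁻¹ = h * b * h⁻¹ := by rw [← hf, ← hf, hab]
  exact Subtype.ext (mul_left_cancel (mul_right_cancel h2))

variable {ι : S →* G} {R : Subgroup G} {h : G} {f : R →* S}

/-- the action of the normalizer -/
noncomputable def act (f : R →* S) (hf : Function.Injective f) :
    Subgroup.normalizer (R : Set G) →* MulAut (S.subtype.comp f).range :=
  (MulAut.congr (MonoidHom.ofInjective (f := S.subtype.comp f) (S.subtype_injective.comp hf))).toMonoidHom.comp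
    R.normalizerMonoidHom

omit [Finite S] [Finite G] in
theorem range_le (f : R →* S) : (S.subtype.comp f).range ≤ S := by
  rintro _ ⟨r, rfl⟩
  exact (f r).2

omit [Finite S] [Finite G] in
theorem act_apply (hf : Function.Injective f) (g : Subgroup.normalizer (R : Set G)) (r : R) :
    ((act f hf g (MonoidHom.ofInjective (f := S.subtype.comp f) (S.subtype_injective.comp hf) r) :
      (S.subtype.comp f).range) : Ω) =
      (f ⟨(g : G) * r * (g : G)⁻¹, (Subgroup.mem_normalizer_iff.1 g.2 r).1 r.2⟩ : S) := by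
  change ((MonoidHom.ofInjective (f := S.subtype.comp f) (S.subtype_injective.comp hf)
    (R.normalizerMonoidHom g ((MonoidHom.ofInjective (f := S.subtype.comp f) (S.subtype_injective.comp hf)).symm
      (MonoidHom.ofInjective (f := S.subtype.comp f) (S.subtype_injective.comp hf) r))) :
      (S.subtype.comp f).range) : Ω) = _
  rw [MulEquiv.symm_apply_apply]
  rfl

omit [Finite S] [Finite G] in
theorem act_eq_one_iff (hf : Function.Injective f) (g : Subgroup.normalizer (R : Set G)) :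
    act f hf g = 1 ↔ (g : G) ∈ Subgroup.centralizer (R : Set G) := by
  have h1 : act f hf g = 1 ↔ R.normalizerMonoidHom g = 1 := by
    change (MulAut.congr _) (R.normalizerMonoidHom g) = 1 ↔ _
    exact MulEquiv.map_eq_one_iff _
  rw [h1, ← MonoidHom.mem_ker, Subgroup.normalizerMonoidHom_ker, Subgroup.mem_subgroupOf]

omit [Finite S] [Finite G] in
theorem act_mem (hι : F.IsRealizedBy ι) (hf : Function.Injective f) (hfe : ∀ r : R, ι (f r) = h * r * h⁻¹)
    (g : Subgroup.normalizer (R : Set G)) : act f hf g ∈ F.autGroup (S.subtype.comp f).range := by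
  rw [mem_autGroup_iff F (range_le f), hι.2 _ (range_le f) _ (fun x => range_le f (act f hf g x).2)]
  refine ⟨h * g * h⁻¹, ?_⟩
  intro x
  obtain ⟨r, rfl⟩ := (MonoidHom.ofInjective (f := S.subtype.comp f) (S.subtype_injective.comp hf)).surjective x
  have h1 : (⟨(((S.subtype.comp f).range.subtype.comp (act f hf g).toMonoidHom)
      (MonoidHom.ofInjective (f := S.subtype.comp f) (S.subtype_injective.comp hf) r) : Ω),
      range_le f (act f hf g _).2⟩ : S) =
      f ⟨(g : G) * r * (g : G)⁻¹, (Subgroup.mem_normalizer_iff.1 g.2 r).1 r.2⟩ :=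
    Subtype.ext (act_apply hf g r)
  have h2 : (⟨((MonoidHom.ofInjective (f := S.subtype.comp f) (S.subtype_injective.comp hf) r :
      (S.subtype.comp f).range) : Ω), range_le f (MonoidHom.ofInjective (f := S.subtype.comp f)
      (S.subtype_injective.comp hf) r).2⟩ : S) = f r := rfl
  rw [h1, h2, hfe, hfe]
  group

omit [Finite S] [Finite G] in
theorem card_range (hf : Function.Injective f) : Nat.card (S.subtype.comp f).range = Nat.card R :=
  (Nat.card_congr (MonoidHom.ofInjective (f := S.subtype.comp f) (S.subtype_injective.comp hf)).toEquiv).symm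

end model

namespace Ctx

variable {F : FusionSystem S} {p n : ℕ} [hp : Fact p.Prime] [Finite S] {G : Type v} [Group G] [Finite G]
  {ι : S →* G} {T : Sylow p G}

/-- the field `aut` -/
theorem aut (c : Ctx F p n) (hι : F.IsRealizedBy ι) (hT : (T : Subgroup G) = ι.range) (R : Subgroup G)
    (hR : IsPGroup p R) (hc : p ^ 3 ≤ Nat.card R) :
    ∃ φ : Subgroup.normalizer (R : Set G) →* (ZMod p)ˣ,
      ∀ g, φ g = 1 ↔ ∃ k : ℕ, ((g : G) ^ p ^ k) ∈ Subgroup.centralizer (R : Set G) := by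
  obtain ⟨h, f, hf, hfe⟩ := exists_embed hι.1 hT hR
  obtain ⟨χ, hχ⟩ := c.exists_chi (R := (S.subtype.comp f).range) (range_le f) (by rw [card_range hf]; exact hc)
  refine ⟨χ.comp ((act f hf).codRestrict _ (act_mem hι hf hfe)), fun g => ?_⟩
  rw [MonoidHom.comp_apply, hχ]
  refine exists_congr fun k => ?_
  rw [← map_pow]
  have h1 : (act f hf).codRestrict _ (act_mem hι hf hfe) (g ^ p ^ k) = 1 ↔ act f hf (g ^ p ^ k) = 1 :=
    ⟨fun h => congrArg Subtype.val h, fun h => Subtype.ext h⟩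
  rw [h1, act_eq_one_iff]
  rfl

/-- the field `dinv` -/
theorem dinv (c : Ctx F p n) (hι : F.IsRealizedBy ι) (hT : (T : Subgroup G) = ι.range) : ¬ DoubleInv p G := by
  rintro ⟨x, y, s, t, hx, hy, ⟨k, hxk⟩, ⟨l, hyl⟩, hxy, hs1, hs2, ht1, ht2⟩
  have hodd : Odd p := hp.out.odd_of_ne_two (by have := c.p3; omega)
  set R : Subgroup G := Subgroup.closure {x, y} with hRdef
  have hxR : x ∈ R := Subgroup.subset_closure (by simp)
  have hyR : y ∈ R := Subgroup.subset_closure (by simp)
  -- `R` is an abelian `p`-group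
  have hmem : ∀ r ∈ R, ∃ i j : ℤ, r = x ^ i * y ^ j := by
    intro r hr
    have hC : Commute x y := hxy
    refine Subgroup.closure_induction (p := fun r _ => ∃ i j : ℤ, r = x ^ i * y ^ j) ?_ ?_ ?_ ?_ hr
    · rintro z hz
      rcases hz with rfl | rfl
      · exact ⟨1, 0, by simp⟩
      · exact ⟨0, 1, by simp⟩
    · exact ⟨0, 0, by simp⟩
    · rintro a b _ _ ⟨i, j, rfl⟩ ⟨i', j', rfl⟩
      refine ⟨i + i', j + j', ?_⟩
      have h1 : y ^ j * x ^ i' = x ^ i' * y ^ j := ((hC.zpow_zpow i' j).symm).eq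
      rw [zpow_add, zpow_add, mul_assoc, ← mul_assoc (y ^ j), h1]
      group
    · rintro a _ ⟨i, j, rfl⟩
      refine ⟨-i, -j, ?_⟩
      rw [mul_inv_rev, zpow_neg, zpow_neg, ← zpow_neg, ← zpow_neg]
      exact ((hC.zpow_zpow (-i) (-j)).symm).eq
  have hR : IsPGroup p R := by
    rintro ⟨r, hr⟩
    obtain ⟨i, j, rfl⟩ := hmem r hr
    refine ⟨k + l, Subtype.ext ?_⟩
    change (x ^ i * y ^ j) ^ p ^ (k + l) = 1
    have hC : Commute (x ^ i) (y ^ j) := (show Commute x y from hxy).zpow_zpow i j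
    rw [hC.mul_pow, ← zpow_natCast, ← zpow_natCast, ← zpow_mul, ← zpow_mul, mul_comm i, mul_comm j, zpow_mul,
      zpow_mul, zpow_natCast, zpow_natCast, pow_add, pow_mul, hxk, one_pow, one_zpow, mul_comm (p ^ k),
      pow_mul, hyl, one_pow, one_zpow, one_mul]
  -- `s` and `t` normalize `R`
  have hnorm : ∀ g : G, (g * x * g⁻¹ = x⁻¹ ∨ g * x * g⁻¹ = x) → (g * y * g⁻¹ = y⁻¹ ∨ g * y * g⁻¹ = y) →
      g ∈ Subgroup.normalizer (R : Set G) := by
    intro g h1 h2
    have h3 : ∀ r ∈ R, g * r * g⁻¹ ∈ R := by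
      intro r hr
      obtain ⟨i, j, rfl⟩ := hmem r hr
      have h5 : g * (x ^ i * y ^ j) * g⁻¹ = (g * x * g⁻¹) ^ i * (g * y * g⁻¹) ^ j := by
        rw [conj_zpow, conj_zpow]; group
      rw [h5]
      refine mul_mem (zpow_mem ?_ _) (zpow_mem ?_ _)
      · rcases h1 with h1 | h1 <;> rw [h1]
        · exact inv_mem hxR
        · exact hxR
      · rcases h2 with h2 | h2 <;> rw [h2]
        · exact inv_mem hyR
        · exact hyR
    have hfin : (R.map (MulAut.conj g).toMonoidHom) = R := by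
      apply Subgroup.eq_of_le_of_card_ge
      · rintro _ ⟨r, hr, rfl⟩
        exact h3 r hr
      · exact (Nat.card_congr (R.equivMapOfInjective _ (MulAut.conj g).injective).toEquiv).le
    rw [Subgroup.mem_normalizer_iff]
    intro r
    refine ⟨h3 r, fun h5 => ?_⟩
    have h6 : g * r * g⁻¹ ∈ R.map (MulAut.conj g).toMonoidHom := by rw [hfin]; exact h5
    obtain ⟨r', hr', h7⟩ := h6
    have h8 : r' = r := mul_left_cancel (mul_right_cancel (h7 : g * r' * g⁻¹ = g * r * g⁻¹))
    rw [← h8]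
    exact hr'
  have hsy : s * y * s⁻¹ = y := by rw [hs2, mul_inv_cancel_right]
  have htx : t * x * t⁻¹ = x := by rw [ht1, mul_inv_cancel_right]
  have hsN := hnorm s (Or.inl hs1) (Or.inr hsy)
  have htN := hnorm t (Or.inr htx) (Or.inl ht2)
  obtain ⟨h, f, hf, hfe⟩ := exists_embed hι.1 hT hR
  set R₀ : Subgroup Ω := (S.subtype.comp f).range with hR₀
  let e : R ≃* R₀ := MonoidHom.ofInjective (f := S.subtype.comp f) (S.subtype_injective.comp hf)
  have hR₀S : R₀ ≤ S := range_le f
  set σ : MulAut R₀ := act f hf ⟨s, hsN⟩ with hσ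
  set τ : MulAut R₀ := act f hf ⟨t, htN⟩ with hτ
  have hσF : σ ∈ F.autGroup R₀ := act_mem hι hf hfe _
  have hτF : τ ∈ F.autGroup R₀ := act_mem hι hf hfe _
  set X : R₀ := e ⟨x, hxR⟩ with hX
  set Y : R₀ := e ⟨y, hyR⟩ with hY
  have hact : ∀ (g : Subgroup.normalizer (R : Set G)) (r : R),
      act f hf g (e r) = e ⟨(g : G) * r * (g : G)⁻¹, (Subgroup.mem_normalizer_iff.1 g.2 r).1 r.2⟩ := by
    intro g r
    exact Subtype.ext (act_apply hf g r)
  have hσX : σ X = X⁻¹ := by
    rw [hσ, hX, hact, ← map_inv]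
    congr 1
    exact Subtype.ext hs1
  have hσY : σ Y = Y := by
    rw [hσ, hY, hact]
    congr 1
    exact Subtype.ext hsy
  have hτX : τ X = X := by
    rw [hτ, hX, hact]
    congr 1
    exact Subtype.ext htx
  have hτY : τ Y = Y⁻¹ := by
    rw [hτ, hY, hact, ← map_inv]
    congr 1
    exact Subtype.ext ht2
  have hXne : X ≠ 1 := by
    intro h1
    apply hx
    have h2 : (⟨x, hxR⟩ : R) = 1 := e.injective (by rw [map_one]; exact h1)
    exact congrArg Subtype.val h2
  have hYne : Y ≠ 1 := by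
    intro h1
    apply hy
    have h2 : (⟨y, hyR⟩ : R) = 1 := e.injective (by rw [map_one]; exact h1)
    exact congrArg Subtype.val h2
  have hXp : ∃ k : ℕ, X ^ p ^ k = 1 := ⟨k, by
    rw [hX, ← map_pow, ← map_one e]
    congr 1
    exact Subtype.ext hxk⟩
  have hYp : ∃ k : ℕ, Y ^ p ^ k = 1 := ⟨l, by
    rw [hY, ← map_pow, ← map_one e]
    congr 1
    exact Subtype.ext hyl⟩
  have hgen : ∀ r : R₀, ∃ i j : ℤ, r = X ^ i * Y ^ j := by
    intro r
    obtain ⟨r', rfl⟩ := e.surjective r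
    obtain ⟨i, j, hij⟩ := hmem r' r'.2
    refine ⟨i, j, ?_⟩
    rw [hX, hY, ← map_zpow, ← map_zpow, ← map_mul]
    congr 1
    exact Subtype.ext hij
  have hσ2 : σ ^ 2 = 1 := by
    ext r
    obtain ⟨i, j, rfl⟩ := hgen r
    rw [pow_two, MulAut.mul_apply, map_mul, map_zpow, map_zpow, hσX, hσY, map_mul, map_zpow, map_zpow, map_inv,
      hσX, hσY, inv_inv]
    rfl
  have hτ2 : τ ^ 2 = 1 := by
    ext r
    obtain ⟨i, j, rfl⟩ := hgen r
    rw [pow_two, MulAut.mul_apply, map_mul, map_zpow, map_zpow, hτX, hτY, map_mul, map_zpow, map_zpow, map_inv,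
      hτX, hτY, inv_inv]
    rfl
  -- elements of `p`-power order which are equal to their inverses
  have hsq : ∀ {K : Type u} [Group K] (z : K), (∃ k : ℕ, z ^ p ^ k = 1) → z⁻¹ = z → z = 1 := by
    rintro K _ z ⟨m, hm⟩ h1
    have h5 : z ^ 2 = 1 := by
      rw [pow_two]
      nth_rewrite 1 [← h1]
      exact inv_mul_cancel z
    have h6 : orderOf z ∣ 2 := orderOf_dvd_of_pow_eq_one h5
    have h7 : orderOf z ∣ p ^ m := orderOf_dvd_of_pow_eq_one hm
    have h8 : Nat.Coprime 2 (p ^ m) := Nat.Coprime.pow_right _ (Nat.coprime_two_left.2 hodd)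
    have h9 := Nat.eq_one_of_dvd_coprimes h8 h6 h7
    rwa [orderOf_eq_one_iff] at h9
  by_cases hE : ∀ E : Subgroup Ω, F.IsEssential p E → ∀ R' ≤ E, ¬ F.IsConj R₀ R'
  · obtain ⟨χ, hχ⟩ := c.exists_chi' hR₀S hE
    exact false_of_chi c.p3 hχ hσF hτF hσ2 hτ2 hXne hYne hXp hYp hσX hτX hτY
  · push Not at hE
    obtain ⟨E, hEe, R', hR'E, φ, hφ, hφR⟩ := hE
    have hEc := c.hess E hEe
    have hfinE : Finite E := finite_of_le (ess_le hEe)
    have hfinR₀ : Finite R₀ := finite_of_le hR₀S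
    have hcard : Nat.card R₀ = Nat.card R' := isConj_card_eq ⟨φ, hφ, hφR⟩
    have hR'eq : R' = E := by
      apply Subgroup.eq_of_le_of_card_ge hR'E
      rw [hEc, ← hcard]
      by_contra hlt
      push Not at hlt
      have hdvd : Nat.card R₀ ∣ p ^ 2 := by
        rw [hcard, ← hEc]
        exact Subgroup.card_dvd_of_le hR'E
      obtain ⟨j, hj, hRj⟩ := (Nat.dvd_prime_pow hp.out).1 hdvd
      have hj1 : j ≤ 1 := by
        rw [hRj] at hlt
        have := (Nat.pow_lt_pow_iff_right hp.out.one_lt).1 hlt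
        omega
      have hj2 : j = 1 := by
        by_contra h1
        have h2 : j = 0 := by omega
        rw [h2, pow_zero] at hRj
        have h3 : Subsingleton R₀ := (Nat.card_eq_one_iff_unique.1 hRj).1
        exact hXne (Subsingleton.elim _ _)
      rw [hj2, pow_one] at hRj
      have h3 : Y ∈ Subgroup.zpowers X := by
        have h4 := mem_zpowers_of_prime_card hRj hXne (g' := Y)
        exact h4
      obtain ⟨m, hm⟩ := Subgroup.mem_zpowers_iff.1 h3
      apply hYne
      apply hsq Y hYp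
      have h5 := hσY
      rw [← hm, map_zpow, hσX, inv_zpow, hm] at h5
      exact h5
    subst hR'eq
    have hσE := congr_mem_autGroup hφ hφR hσF
    set i := isoOf φ (F.injective_of_mem hφ) hφR with hi
    refine c.no_reflection hEe hσE (u := i Y) (v := i X) ?_ ?_ ?_ ?_
    · intro h1
      exact hYne (i.injective (by rw [h1, map_one]))
    · intro h1
      exact hXne (i.injective (by rw [h1, map_one]))
    · change i (σ (i.symm (i Y))) = i Y
      rw [i.symm_apply_apply, hσY]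
    · change i (σ (i.symm (i X))) = (i X)⁻¹
      rw [i.symm_apply_apply, hσX, map_inv]

/-- the field `rep` -/
theorem hasRep (c : Ctx F p n) (hι : F.IsRealizedBy ι) : HasRep p G := by
  obtain ⟨z, w, s, hz1, hzp, hwp, hzw, hsz, hsw, hqz, hqw, hzc, hzW⟩ :=
    exists_repElements c.mc c.n5 c.p3 c.hK c.hna
  refine ⟨ι.range, ι z, ι w, ι s, (chain S 1).map ι, ?_, ⟨z, rfl⟩, ⟨w, rfl⟩, ⟨s, rfl⟩,
    Subgroup.map_le_range _ _, ?_⟩
  · exact c.hS.of_equiv (MonoidHom.ofInjective hι.1)
  refine ⟨?_, by rw [← map_pow, hzp, map_one], by rw [← map_pow, hwp, map_one], hzw.map ι, hsz.map ι,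
    by rw [← map_inv, ← map_mul, ← map_mul, hsw, map_mul], ?_, ?_, ?_, ?_⟩
  · intro h1
    exact hz1 (hι.1 (by rw [h1, map_one]))
  · rintro _ ⟨q, hq, rfl⟩
    exact (hqz q hq).map ι
  · rintro _ ⟨q, hq, rfl⟩
    exact (hqw q hq).map ι
  · rw [← Subgroup.map_commutator]
    exact Subgroup.mem_map_of_mem _ hzc
  · intro a ha
    -- a pearl
    obtain ⟨E, hE⟩ := c.hex
    have hES := ess_le hE
    have hpe := c.isPearl hE
    have hEc := c.hess E hE
    have hfinE : Finite E := finite_of_le hES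
    have hfrat : frattini E = ⊥ := ess_frattini_eq_bot_of_card_sq c.hS hE hEc
    obtain ⟨x, y, e, hfr⟩ := exists_frame c.hS c.hF hE (pearl_frattini_index c.hS hpe)
    -- `z ∈ E`
    have hzE : (z : Ω) ∈ E := by
      apply hE.1.2 E (isConj_refl F hES)
      refine ⟨z.2, Subgroup.mem_centralizer_iff.2 ?_⟩
      intro g hg
      have h1 := (c.mc.center_le hzW ⟨g, hES hg⟩).eq
      exact (congrArg Subtype.val h1).symm
    have hZ : (⟨(z : Ω), hzE⟩ : E) ≠ 1 := by
      intro h1
      apply hz1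
      exact Subtype.ext (congrArg (fun v : E => (v : Ω)) h1)
    have hza : (⟨(z : Ω), hzE⟩ : E) ^ a ≠ 1 := by
      intro h1
      apply hZ
      have h2 : orderOf (⟨(z : Ω), hzE⟩ : E) ∣ a := orderOf_dvd_of_pow_eq_one h1
      have h3 : (⟨(z : Ω), hzE⟩ : E) ^ p = 1 := by
        apply Subtype.ext
        exact congrArg (fun v : S => (v : Ω)) hzp
      have h4 : orderOf (⟨(z : Ω), hzE⟩ : E) ∣ p := orderOf_dvd_of_pow_eq_one h3
      have h5 : Nat.Coprime a p := ((Nat.Prime.coprime_iff_not_dvd hp.out).2 ha).symm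
      have h6 := Nat.eq_one_of_dvd_coprimes h5 h2 h4
      rwa [orderOf_eq_one_iff] at h6
    obtain ⟨α, hα, hαe⟩ := hfr.trans (u := ⟨(z : Ω), hzE⟩) (v := ⟨(z : Ω), hzE⟩ ^ a)
      (by rwa [hfrat, Subgroup.mem_bot]) (by rwa [hfrat, Subgroup.mem_bot])
    have hαz : α ⟨(z : Ω), hzE⟩ = ⟨(z : Ω), hzE⟩ ^ a := by
      rw [QuotientGroup.eq, hfrat, Subgroup.mem_bot, inv_mul_eq_one] at hαe
      exact hαe
    obtain ⟨g, hg⟩ := (hι.2 E hES _ (fun x => hES (α x).2)).1 ((mem_autGroup_iff F hES α).1 hα)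
    refine ⟨g, ?_⟩
    have h1 := hg ⟨(z : Ω), hzE⟩
    have h2 : (⟨(E.subtype.comp α.toMonoidHom) ⟨(z : Ω), hzE⟩, hES (α ⟨(z : Ω), hzE⟩).2⟩ : S) = z ^ a := by
      apply Subtype.ext
      change ((α ⟨(z : Ω), hzE⟩ : E) : Ω) = _
      rw [hαz]
      rfl
    rw [h2, map_pow] at h1
    exact h1.symm

/-- **Finite groups realizing `F` are `Pearly`.** -/
theorem pearly (c : Ctx F p n) (hι : F.IsRealizedBy ι) (hT : (T : Subgroup G) = ι.range) : Pearly p n G := by
  have hval : (Nat.card G).factorization p = n := by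
    have h1 := T.card_eq_multiplicity
    rw [hT, ← Nat.card_congr (MonoidHom.ofInjective hι.1).toEquiv, c.card] at h1
    exact (Nat.pow_right_injective hp.out.two_le h1).symm
  have hequiv : ∀ P : Subgroup G, Nat.card P = p ^ n → Nonempty (P ≃* S) := by
    intro P hP
    obtain ⟨h, f, hf, -⟩ := exists_embed hι.1 hT (IsPGroup.of_card hP)
    refine ⟨MulEquiv.ofBijective f ⟨hf, ?_⟩⟩
    exact ((Nat.bijective_iff_injective_and_card f).2 ⟨hf, by rw [hP, c.card]⟩).2
  refine ⟨hp.out, c.p3, c.n5, hval, ?_, ?_, ?_, ?_, c.aut hι hT, c.dinv hι hT, c.hasRep hι⟩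
  · intro P hP h1
    obtain ⟨e⟩ := hequiv P hP
    apply lcs_ne_bot c.mc
    have h2 := (⊤ : Subgroup P).map_lowerCentralSeries e.toMonoidHom (n - 2)
    rw [← MonoidHom.range_eq_map, MonoidHom.range_eq_top.2 e.surjective, h1, Subgroup.map_bot] at h2
    exact h2.symm
  · intro P hP
    obtain ⟨e⟩ := hequiv P hP
    rw [index_commutator_congr e]
    exact index_commutator c.mc
  · intro P hP
    obtain ⟨e⟩ := hequiv P hP
    rw [Nat.card_congr (Subgroup.centerCongr e).toEquiv]
    exact card_center c.mc c.p3 c.hK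
  · intro A hA hAp
    obtain ⟨h, f, hf, -⟩ := exists_embed hι.1 hT hAp
    have h1 := card_abelian_le c.mc c.n5 c.p3 c.hK c.hna f.range (by
      rintro _ ⟨a, rfl⟩ _ ⟨b, rfl⟩
      rw [← map_mul, ← map_mul, hA.is_comm.comm])
    rwa [← Nat.card_congr (MonoidHom.ofInjective hf).toEquiv] at h1

end Ctx

end Cfsg.Agent.H789.Exo
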