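import Cfsg.Agent.H789.Exo.Defs
import Cfsg.Prelude.Def_Classical
import Mathlib.GroupTheory.Perm.Sign
import Mathlib.GroupTheory.Perm.ViaEmbedding
import Mathlib.GroupTheory.SpecificGroups.Alternating
import Mathlib.Algebra.Group.Action.Basic
import Mathlib.LinearAlgebra.Matrix.Permutation

/-!
# Cyclic groups of prime order and alternating groups (helper789)

* `doubleInv_perm` : `DoubleInv p (Equiv.Perm α)` if `2 p ≤ |α|`;
* `doubleInv_alternating` : `DoubleInv p (alternatingGroup α)` if `2 p + 2 ≤ |α|`;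
* `row_cyclic`, `row_alternating` : the rows `IsPrimeCyclic`, `IsAlternating`.
-/

set_option autoImplicit false

namespace Cfsg.Agent.H789.Exo

open Cfsg

universe u v w

section perm

variable (p : ℕ)

/-- translation by one -/
def rot : Equiv.Perm (ZMod p) := Equiv.addRight (1 : ZMod p)

/-- negation -/
def refl : Equiv.Perm (ZMod p) := Equiv.neg (ZMod p)

theorem rot_pow_apply (k : ℕ) (i : ZMod p) : (rot p ^ k) i = i + k := by
  induction k generalizing i with
  | zero => simp
  | succ k ih =>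
    rw [pow_succ, Equiv.Perm.mul_apply, ih]
    simp [rot]
    ring

theorem rot_pow : rot p ^ p = 1 := by
  ext i
  rw [rot_pow_apply]
  simp

theorem rot_ne (hp : p.Prime) : rot p ≠ 1 := by
  intro h
  have h1 := Equiv.congr_fun h (0 : ZMod p)
  have : Fact p.Prime := ⟨hp⟩
  simp [rot] at h1

theorem refl_rot : refl p * rot p * (refl p)⁻¹ = (rot p)⁻¹ := by
  rw [mul_inv_eq_iff_eq_mul, eq_inv_mul_iff_mul_eq]
  ext i
  simp [rot, refl, Equiv.Perm.mul_apply]

variable {p}

theorem sign_rot (hp : p.Prime) (hp2 : 3 ≤ p) [Fintype (ZMod p)] [DecidableEq (ZMod p)] :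
    Equiv.Perm.sign (rot p) = 1 := by
  have h1 : (Equiv.Perm.sign (rot p)) ^ p = 1 := by rw [← map_pow, rot_pow, map_one]
  have h2 : Odd p := hp.odd_of_ne_two (by omega)
  rcases Int.units_eq_one_or (Equiv.Perm.sign (rot p)) with h3 | h3
  · exact h3
  · rw [h3, h2.neg_one_pow] at h1
    exact absurd h1 (by decide)

theorem hasInv_perm (hp : p.Prime) : HasInv p (Equiv.Perm (ZMod p)) :=
  ⟨rot p, refl p, rot_ne p hp, ⟨1, by rw [pow_one, rot_pow]⟩, refl_rot p⟩

/-- `DoubleInv` in symmetric groups of degree at least `2 p` -/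
theorem doubleInv_perm (hp : p.Prime) {α : Type u} [Fintype α] (hα : 2 * p ≤ Fintype.card α) :
    DoubleInv p (Equiv.Perm α) := by
  classical
  have : NeZero p := ⟨hp.pos.ne'⟩
  have h1 : Fintype.card (ZMod p ⊕ ZMod p) ≤ Fintype.card α := by
    rw [Fintype.card_sum, ZMod.card]
    omega
  obtain ⟨ι⟩ := Function.Embedding.nonempty_of_card_le h1
  have h2 := DoubleInv.prod (hasInv_perm hp) (hasInv_perm hp)
  refine h2.map ((Equiv.Perm.viaEmbeddingHom ι).comp (Equiv.Perm.sumCongrHom (ZMod p) (ZMod p))) ?_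
  intro g _ hg
  have h3 := Equiv.Perm.viaEmbeddingHom_injective ι
  apply Equiv.Perm.sumCongrHom_injective
  apply h3
  rw [map_one, map_one]
  exact hg

/-- the correction of the sign -/
def corr (σ : ℤˣ) : Equiv.Perm (Fin 2) := if σ = 1 then 1 else Equiv.swap 0 1

theorem sign_corr (σ : ℤˣ) : Equiv.Perm.sign (corr σ) = σ := by
  unfold corr
  split_ifs with h
  · rw [h, map_one]
  · rw [Equiv.Perm.sign_swap (by decide)]
    rcases Int.units_eq_one_or σ with h3 | h3
    · exact absurd h3 h
    · exact h3.symm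

/-- `DoubleInv` in alternating groups of degree at least `2 p + 2` -/
theorem doubleInv_alternating (hp : p.Prime) (hp2 : 3 ≤ p) {α : Type u} [Fintype α] [DecidableEq α]
    (hα : 2 * p + 2 ≤ Fintype.card α) : DoubleInv p (alternatingGroup α) := by
  classical
  have : NeZero p := ⟨hp.pos.ne'⟩
  have h1 : Fintype.card (ZMod p ⊕ (ZMod p ⊕ Fin 2)) ≤ Fintype.card α := by
    rw [Fintype.card_sum, Fintype.card_sum, ZMod.card, Fintype.card_fin]
    omega
  obtain ⟨ι⟩ := Function.Embedding.nonempty_of_card_le h1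
  let f : Equiv.Perm (ZMod p) × Equiv.Perm (ZMod p) × Equiv.Perm (Fin 2) →* Equiv.Perm α :=
    (Equiv.Perm.viaEmbeddingHom ι).comp ((Equiv.Perm.sumCongrHom (ZMod p) (ZMod p ⊕ Fin 2)).comp
      ((MonoidHom.id _).prodMap (Equiv.Perm.sumCongrHom (ZMod p) (Fin 2))))
  have hfinj : Function.Injective f := by
    intro a b hab
    have h2 := Equiv.Perm.sumCongrHom_injective (Equiv.Perm.viaEmbeddingHom_injective ι hab)
    have h3 := congrArg Prod.fst h2
    have h4 := Equiv.Perm.sumCongrHom_injective (congrArg Prod.snd h2)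
    exact Prod.ext h3 h4
  have hsign : ∀ a b c, Equiv.Perm.sign (f (a, b, c)) =
      Equiv.Perm.sign a * (Equiv.Perm.sign b * Equiv.Perm.sign c) := by
    intro a b c
    have h2 : f (a, b, c) = Equiv.Perm.viaEmbedding (Equiv.Perm.sumCongr a (Equiv.Perm.sumCongr b c)) ι := rfl
    rw [h2]
    unfold Equiv.Perm.viaEmbedding
    rw [Equiv.Perm.sign_extendDomain, Equiv.Perm.sign_sumCongr, Equiv.Perm.sign_sumCongr]
  set σ := Equiv.Perm.sign (refl p) with hσ
  have hx : f (rot p, 1, 1) ∈ alternatingGroup α := by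
    rw [Equiv.Perm.mem_alternatingGroup, hsign, map_one, map_one, sign_rot hp hp2]
    rfl
  have hy : f (1, rot p, 1) ∈ alternatingGroup α := by
    rw [Equiv.Perm.mem_alternatingGroup, hsign, map_one, map_one, sign_rot hp hp2]
    rfl
  have hs : f (refl p, 1, corr σ) ∈ alternatingGroup α := by
    rw [Equiv.Perm.mem_alternatingGroup, hsign, map_one, sign_corr, one_mul, ← hσ, Int.units_mul_self]
  have ht : f (1, refl p, corr σ) ∈ alternatingGroup α := by
    rw [Equiv.Perm.mem_alternatingGroup, hsign, map_one, sign_corr, one_mul, ← hσ, Int.units_mul_self]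
  refine ⟨⟨_, hx⟩, ⟨_, hy⟩, ⟨_, hs⟩, ⟨_, ht⟩, ?_, ?_, ⟨1, ?_⟩, ⟨1, ?_⟩, ?_, ?_, ?_, ?_, ?_⟩
  · intro h
    have h2 := hfinj ((congrArg Subtype.val h).trans (map_one f).symm)
    exact rot_ne p hp (congrArg Prod.fst h2)
  · intro h
    have h2 := hfinj ((congrArg Subtype.val h).trans (map_one f).symm)
    exact rot_ne p hp (congrArg Prod.fst (congrArg Prod.snd h2))
  · apply Subtype.ext
    change f (rot p, 1, 1) ^ p ^ 1 = 1
    rw [pow_one, ← map_pow, Prod.pow_mk, Prod.pow_mk, rot_pow, one_pow, one_pow]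
    exact map_one f
  · apply Subtype.ext
    change f (1, rot p, 1) ^ p ^ 1 = 1
    rw [pow_one, ← map_pow, Prod.pow_mk, Prod.pow_mk, rot_pow, one_pow, one_pow]
    exact map_one f
  · apply Subtype.ext
    change f _ * f _ = f _ * f _
    rw [← map_mul, ← map_mul]
    simp only [Prod.mk_mul_mk, one_mul, mul_one]
  · apply Subtype.ext
    change f _ * f _ * (f _)⁻¹ = (f _)⁻¹
    rw [← map_inv, ← map_inv, ← map_mul, ← map_mul]
    simp only [Prod.mk_mul_mk, Prod.inv_mk, inv_one, mul_one, refl_rot, mul_inv_cancel]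
  · apply Subtype.ext
    change f _ * f _ = f _ * f _
    rw [← map_mul, ← map_mul]
    simp only [Prod.mk_mul_mk, one_mul, mul_one]
  · apply Subtype.ext
    change f _ * f _ = f _ * f _
    rw [← map_mul, ← map_mul]
    simp only [Prod.mk_mul_mk, one_mul, mul_one]
  · apply Subtype.ext
    change f _ * f _ * (f _)⁻¹ = (f _)⁻¹
    rw [← map_inv, ← map_inv, ← map_mul, ← map_mul]
    simp only [Prod.mk_mul_mk, Prod.inv_mk, inv_one, mul_one, refl_rot, mul_inv_cancel]

end perm

/-- numerics -/
theorem two_mul_add_two_le {p : ℕ} (hp : 3 ≤ p) : 2 * p + 2 ≤ p ^ 2 * (p - 1) := by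
  obtain ⟨k, rfl⟩ : ∃ k, p = k + 3 := ⟨p - 3, by omega⟩
  rw [show k + 3 - 1 = k + 2 by omega]
  nlinarith [Nat.zero_le k]

variable {p n : ℕ} {G : Type u} [Group G]

/-- groups of prime order -/
theorem row_cyclic [Finite G] (h : Pearly p n G) (hX : IsPrimeCyclic G) : False := by
  have h1 := h.val
  have h2 : (Nat.card G).factorization p ≤ 1 := by
    rw [Nat.Prime.factorization hX]
    by_cases h3 : p = Nat.card G
    · rw [h3, Finsupp.single_eq_same]
    · rw [Finsupp.single_eq_of_ne h3]
      omega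
  have := h.five
  omega

/-- alternating groups -/
theorem row_alternating [Finite G] (h : Pearly p n G) (hX : IsAlternating G) : False := by
  obtain ⟨m, -, ⟨e⟩⟩ := hX
  have h' := h.congr e
  have hp := h.prime
  have : Fact p.Prime := ⟨hp⟩
  -- a field of characteristic different from `p`
  have h2 : ((p : ℕ) : ℚ) ≠ 0 := by
    exact_mod_cast hp.pos.ne'
  let f : alternatingGroup (Fin m) →* Matrix (Fin m) (Fin m) ℚ :=
    { toFun := fun σ => ((σ : Equiv.Perm (Fin m))⁻¹).permMatrix ℚ
      map_one' := by simp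
      map_mul' := fun a b => by
        rw [Subgroup.coe_mul, mul_inv_rev, Matrix.permMatrix_mul] }
  have hf : Function.Injective f := by
    intro a b hab
    have h3 : ((a : Equiv.Perm (Fin m))⁻¹).permMatrix ℚ = ((b : Equiv.Perm (Fin m))⁻¹).permMatrix ℚ := hab
    apply Subtype.ext
    apply inv_injective
    have h4 := PEquiv.toMatrix_injective h3
    ext i
    have h5 := congrArg (fun g : Fin m ≃. Fin m => g i) h4
    simp only [Equiv.toPEquiv_apply] at h5
    exact congrArg Fin.val (Option.some_injective _ h5)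
  have h3 := h'.le_card h2 f hf
  rw [Fintype.card_fin] at h3
  exact h'.dinv (doubleInv_alternating hp h.odd (by
    rw [Fintype.card_fin]
    exact (two_mul_add_two_le h.odd).trans h3))

end Cfsg.Agent.H789.Exo
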