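import Cfsg.Agent.H789.Exo.FusA
import Cfsg.Agent.H793.PearlB
import Cfsg.Agent.H771.MCAll
import Cfsg.Prelude.Def_FusionReduction

/-!
# The hypotheses of S5268 give `Ctx` (helper789)
-/

set_option autoImplicit false

namespace Cfsg.Agent.H789.Exo

open Cfsg Cfsg.FusionSystem
open Cfsg.Agent.H467.MaxClass Cfsg.Agent.H797.MaxOmega
open scoped commutatorElement

universe u

variable {Ω : Type u} [Group Ω] {S : Subgroup Ω}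

/-- the hypotheses of S5268 give `Ctx` -/
theorem Ctx.of {p n : ℕ} [hp : Fact p.Prime] [Finite S] (hS : IsPGroup p ↥S) (hn : Nat.card S = p ^ n)
    (h4 : 4 ≤ n) (hmax : Subgroup.lowerCentralSeries S (n - 2) ≠ ⊥) {F : Cfsg.FusionSystem S}
    (hred : F.IsReduced p) {Γ₁ : Subgroup Ω}
    (hΓ₁ : ∀ x : Ω, x ∈ Γ₁ ↔ x ∈ S ∧
      ∀ y ∈ Subgroup.lowerCentralSeries S 1, x * y * x⁻¹ * y⁻¹ ∈ Subgroup.lowerCentralSeries S 3)
    (hna : ¬ IsMulCommutative ↥Γ₁)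
    (hnexc : Γ₁ = (S ⊓ Subgroup.centralizer (((Subgroup.upperCentralSeries ↥S 2).map S.subtype) : Set Ω)))
    (hess : ∀ E : Subgroup Ω, F.IsEssential p E → Nat.card E = p ^ 2)
    (hex : ∃ E : Subgroup Ω, F.IsEssential p E) (hp3 : 3 ≤ p) (h5 : 5 ≤ n) : Ctx F p n := by
  have hΓ := Cfsg.Agent.H793.PearlB.gam_eq hΓ₁
  obtain ⟨a, ha, b, hb, hab⟩ := Cfsg.Agent.H771.MCP.exists_noncomm hΓ hna
  refine ⟨hS, hred.1, hn, hp3, h5, Cfsg.Agent.H793.PearlB.mcS hn h4 hmax, ?_,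
    ⟨a, ha, b, hb, fun h => hab (commutatorElement_eq_one_iff_mul_comm.1 h)⟩, hess, hex⟩
  ext x
  have h1 : (x : Ω) ∈ Γ₁ ↔ x ∈ chain S 1 := by
    rw [hΓ, mem_V]
    exact ⟨fun ⟨_, h⟩ => h, fun h => ⟨x.2, h⟩⟩
  have h2 : (x : Ω) ∈ Γ₁ ↔ x ∈ (Cfsg.Agent.H793.PearlB.mcS hn h4 hmax).Ksub (n - 2) := by
    rw [hnexc, Cfsg.Agent.H793.PearlB.mem_cz hn h4 hmax]
    exact ⟨fun ⟨_, h⟩ => h, fun h => ⟨x.2, h⟩⟩
  rw [← h1, h2]

end Cfsg.Agent.H789.Exo
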