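import Mathlib.RingTheory.IntegralDomain
import Mathlib.FieldTheory.Finite.Basic
import Mathlib.GroupTheory.SpecificGroups.Cyclic
import Mathlib.GroupTheory.QuotientGroup.Basic

/-!
# Quotients of groups with a homomorphism to `(ZMod p)ˣ` whose kernel consists of `p`-elements (helper789)
-/

set_option autoImplicit false

namespace Cfsg.Agent.H789.Exo

universe u v

theorem units_pow_p {p : ℕ} [Fact p.Prime] (u : (ZMod p)ˣ) : u ^ p = u := by
  have h1 := ZMod.units_pow_card_sub_one_eq_one p u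
  have h2 : p = p - 1 + 1 := by
    have := (Fact.out : p.Prime).pos
    omega
  calc u ^ p = u ^ (p - 1 + 1) := by rw [← h2]
    _ = u := by rw [pow_succ, h1, one_mul]

theorem units_pow_p_pow {p : ℕ} [Fact p.Prime] (u : (ZMod p)ˣ) (k : ℕ) : u ^ p ^ k = u := by
  induction k with
  | zero => rw [pow_zero, pow_one]
  | succ k ih => rw [pow_succ, pow_mul, ih, units_pow_p]

/-- In a subgroup of order `d` of a finite cyclic group lie all the elements with `u ^ d = 1`. -/
theorem mem_of_pow_card_eq_one {A : Type u} [CommGroup A] [Finite A] [IsCyclic A] (Y : Subgroup A) {u : A}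
    (hu : u ^ Nat.card Y = 1) : u ∈ Y := by
  classical
  have := Fintype.ofFinite A
  have h7 := IsCyclic.card_pow_eq_one_le (α := A) (n := Nat.card Y) Nat.card_pos
  have h8 : (Y : Set A).toFinset ⊆ Finset.univ.filter (fun x : A => x ^ Nat.card Y = 1) := by
    intro x hx
    rw [Set.mem_toFinset] at hx
    rw [Finset.mem_filter]
    refine ⟨Finset.mem_univ _, ?_⟩
    have h1 : (⟨x, hx⟩ : Y) ^ Nat.card Y = 1 := pow_card_eq_one'
    exact congrArg Subtype.val h1
  have h9 : (Y : Set A).toFinset.card = Nat.card Y := by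
    rw [← Set.ncard_eq_toFinset_card', ← Nat.card_coe_set_eq]
    rfl
  have h10 := Finset.eq_of_subset_of_card_le h8 (by rw [h9]; exact h7)
  have h11 : u ∈ Finset.univ.filter (fun x : A => x ^ Nat.card Y = 1) := by
    rw [Finset.mem_filter]
    exact ⟨Finset.mem_univ _, hu⟩
  rw [← h10, Set.mem_toFinset] at h11
  exact h11

/-- **Quotients.** -/
theorem exists_chi {p : ℕ} [Fact p.Prime] {A : Type u} {B : Type v} [Group A] [Group B]
    (f : A →* (ZMod p)ˣ) (hf : ∀ a, f a = 1 → ∃ k : ℕ, a ^ p ^ k = 1) (π : A →* B)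
    (hπ : Function.Surjective π) :
    ∃ χ : B →* (ZMod p)ˣ, ∀ b, χ b = 1 ↔ ∃ k : ℕ, b ^ p ^ k = 1 := by
  let Y : Subgroup (ZMod p)ˣ := π.ker.map f
  let d := Nat.card Y
  let g : A →* (ZMod p)ˣ := (powMonoidHom d).comp f
  have hg : π.ker ≤ g.ker := by
    intro a ha
    rw [MonoidHom.mem_ker]
    change f a ^ d = 1
    have h1 : (⟨f a, Subgroup.mem_map_of_mem f ha⟩ : Y) ^ Nat.card Y = 1 := pow_card_eq_one'
    exact congrArg Subtype.val h1
  let χ : B →* (ZMod p)ˣ := π.liftOfSurjective hπ ⟨g, hg⟩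
  have hχ : ∀ a, χ (π a) = f a ^ d := fun a => by
    change (π.liftOfSurjective hπ ⟨g, hg⟩) (π a) = _
    rw [MonoidHom.liftOfRightInverse_comp_apply]
    rfl
  refine ⟨χ, fun b => ?_⟩
  obtain ⟨a, rfl⟩ := hπ b
  rw [hχ]
  constructor
  · intro h
    obtain ⟨c, hc, hce⟩ := mem_of_pow_card_eq_one Y h
    have h1 : f (a * c⁻¹) = 1 := by rw [map_mul, map_inv, hce, mul_inv_cancel]
    obtain ⟨k, hk⟩ := hf _ h1
    refine ⟨k, ?_⟩
    have h2 : π (a * c⁻¹) = π a := by
      rw [map_mul, map_inv, MonoidHom.mem_ker.1 hc, inv_one, mul_one]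
    rw [← h2, ← map_pow, hk, map_one]
  · rintro ⟨k, hk⟩
    have h1 : a ^ p ^ k ∈ π.ker := by rw [MonoidHom.mem_ker, map_pow, hk]
    have h2 : f a ∈ Y := ⟨_, h1, by rw [map_pow, units_pow_p_pow]⟩
    have h3 : (⟨f a, h2⟩ : Y) ^ Nat.card Y = 1 := pow_card_eq_one'
    exact congrArg Subtype.val h3

end Cfsg.Agent.H789.Exo
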