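import Cfsg.Agent.H789.Exo.FusB
import Cfsg.Agent.H789.Exo.Arith
import Cfsg.Agent.H789.Exo.Alt
import Cfsg.Agent.H785.ExoLin
import Cfsg.Agent.H748.ExoSPO
import Cfsg.Agent.H783.ExoX2
import Cfsg.Agent.H559.PearlyExc
import Cfsg.Agent.H766.ExoChar
import Cfsg.Agent.H269.ExoSpo
import Cfsg.Agent.H978.Exo.Rows
import Cfsg.Agent.H978.Exo.Seven
import Cfsg.Prelude.Def_Classification2
import Cfsg.Prelude.Def_LieTypeChar
import Cfsg.Agent.S5343
import Cfsg.Agent.S0000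

/-!
# Exoticness of the fusion systems with abelian pearls on nonexceptional groups of maximal class (helper789)

* `false_of_known` : the known simple groups do not realize such systems;
* `isExotic` : part (d) of S5268.
-/

set_option autoImplicit false

namespace Cfsg.Agent.H789.Exo

open Cfsg Cfsg.FusionSystem

universe u

section

variable {p n : ℕ} {G : Type u} [Group G] [Finite G] [IsSimpleGroup G]

theorem natCast_ne_zero_or_charP (hp : p.Prime) (F : Type) [Field F] : (p : F) ≠ 0 ∨ CharP F p := by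
  by_cases h : (p : F) = 0
  · right
    have h1 := CharP.exists F
    obtain ⟨q, hq⟩ := h1
    have h2 : q ∣ p := (CharP.cast_eq_zero_iff F q p).1 h
    rcases (Nat.dvd_prime hp).1 h2 with h3 | h3
    · exfalso
      rw [h3] at hq
      exact one_ne_zero (α := F) (by
        have h4 := (CharP.cast_eq_zero_iff F 1 1).2 dvd_rfl
        rwa [Nat.cast_one] at h4)
    · rw [← h3]
      exact hq
  · left
    exact h

omit [Finite G] [IsSimpleGroup G] in
theorem hAlt (h : Pearly p n G) : ∀ m, 2 * p + 2 ≤ m → DoubleInv p (alternatingGroup (Fin m)) :=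
  fun m hm => doubleInv_alternating h.prime h.odd (by rw [Fintype.card_fin]; exact hm)

/-- the case `p ∤ q` or `p ∣ q` for the groups of Lie type -/
theorem false_of_classical (h : Pearly p n G) (hG : IsPSL G ∨ IsPSp G ∨ IsPSU G ∨ IsPOmegaOdd G ∨ IsPOmegaPlus G ∨
    IsPOmegaMinus G) : False := by
  have hp := h.prime
  rcases hG with h1 | h1 | h1 | h1 | h1 | h1
  · obtain ⟨F, i1, i2, m, hm, hm2, ⟨e⟩⟩ := h1
    rcases natCast_ne_zero_or_charP hp F with hF | hF
    · exact Cfsg.Agent.H785.Exo.row_psl h hF e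
    · exact Cfsg.Agent.H766.Exo.row_defining h (Or.inl ⟨F, i1, i2, hF, m, hm, hm2, ⟨e⟩⟩)
  · obtain ⟨F, i1, i2, m, hm, hm2, ⟨e⟩⟩ := h1
    rcases natCast_ne_zero_or_charP hp F with hF | hF
    · exact Cfsg.Agent.H748.ExoSPO.psp h (hAlt h) hF (by omega) e
    · exact Cfsg.Agent.H766.Exo.row_defining h (Or.inr (Or.inl ⟨F, i1, i2, hF, m, hm, hm2, ⟨e⟩⟩))
  · obtain ⟨F, i1, i2, m, q, hq, hm, hm2, ⟨e⟩⟩ := h1
    rcases natCast_ne_zero_or_charP hp F with hF | hF
    · exact Cfsg.Agent.H785.Exo.row_psu h hF hq e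
    · exact Cfsg.Agent.H766.Exo.row_defining h (Or.inr (Or.inr (Or.inl ⟨F, i1, i2, hF, m, q, hq, hm, hm2, ⟨e⟩⟩)))
  · obtain ⟨F, i1, i2, m, hm, hodd, ⟨e⟩⟩ := h1
    rcases natCast_ne_zero_or_charP hp F with hF | hF
    · refine Cfsg.Agent.H748.ExoSPO.pomega_odd h (hAlt h) hF ?_ (by omega) e
      intro h2
      have h3 : CharP F 2 := by
        rcases natCast_ne_zero_or_charP Nat.prime_two F with h4 | h4
        · exact absurd (by exact_mod_cast h2) h4
        · exact h4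
      have h5 : 2 ∣ Fintype.card F := by
        have := FiniteField.card F 2
        obtain ⟨k, -, hk⟩ := this
        rw [hk]
        exact dvd_pow_self 2 k.ne_zero
      exact (Nat.not_even_iff_odd.2 hodd) (even_iff_two_dvd.2 h5)
    · exact Cfsg.Agent.H766.Exo.row_defining h
        (Or.inr (Or.inr (Or.inr (Or.inl ⟨F, i1, i2, hF, m, hm, hodd, ⟨e⟩⟩))))
  · obtain ⟨F, i1, i2, m, hm, ⟨e⟩⟩ := h1
    rcases natCast_ne_zero_or_charP hp F with hF | hF
    · exact Cfsg.Agent.H748.ExoSPO.pomega_plus h (hAlt h) hF (by omega) e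
    · exact Cfsg.Agent.H766.Exo.row_defining h
        (Or.inr (Or.inr (Or.inr (Or.inr (Or.inl ⟨F, i1, i2, hF, m, hm, ⟨e⟩⟩)))))
  · obtain ⟨F, i1, i2, m, a, b, hm, hab, ⟨e⟩⟩ := h1
    rcases natCast_ne_zero_or_charP hp F with hF | hF
    · exact Cfsg.Agent.H748.ExoSPO.pomega_minus h (hAlt h) hF (by omega) hab e
    · exact Cfsg.Agent.H766.Exo.row_defining h
        (Or.inr (Or.inr (Or.inr (Or.inr (Or.inr (Or.inl ⟨F, i1, i2, hF, m, a, b, hm, hab, ⟨e⟩⟩))))))

theorem false_of_exceptional (h : Pearly p n G) (hG : IsExceptionalLieType G) : False := by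
  have hp := h.prime
  rcases hG with h1 | h1 | h1 | h1 | h1 | h1 | h1 | h1 | h1 | h1 | h1
  · obtain ⟨F, i1, i2, hc, ⟨e⟩⟩ := h1
    rcases natCast_ne_zero_or_charP hp F with hF | hF
    · exact Cfsg.Agent.H559.PearlyExc.false_isoG2 h hF e
    · exact Cfsg.Agent.H766.Exo.row_defining h (Or.inr (Or.inr (Or.inr (Or.inr (Or.inr (Or.inr (Or.inl
        ⟨F, i1, i2, hF, Or.inl ⟨hc, ⟨e⟩⟩⟩)))))))
  · obtain ⟨F, i1, i2, ⟨e⟩⟩ := h1
    rcases natCast_ne_zero_or_charP hp F with hF | hF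
    · exact Cfsg.Agent.H783.ExoX2.false_f4 h hF e
    · exact Cfsg.Agent.H766.Exo.row_defining h (Or.inr (Or.inr (Or.inr (Or.inr (Or.inr (Or.inr (Or.inl
        ⟨F, i1, i2, hF, Or.inr (Or.inl ⟨e⟩)⟩)))))))
  · obtain ⟨F, i1, i2, ⟨e⟩⟩ := h1
    rcases natCast_ne_zero_or_charP hp F with hF | hF
    · exact Cfsg.Agent.H783.ExoX2.false_e6 h hF e
    · exact Cfsg.Agent.H766.Exo.row_defining h (Or.inr (Or.inr (Or.inr (Or.inr (Or.inr (Or.inr (Or.inl
        ⟨F, i1, i2, hF, Or.inr (Or.inr (Or.inl ⟨e⟩))⟩)))))))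
  · obtain ⟨F, i1, i2, ⟨e⟩⟩ := h1
    rcases natCast_ne_zero_or_charP hp F with hF | hF
    · exact Cfsg.Agent.H783.ExoX2.false_e7 h hF e
    · exact Cfsg.Agent.H766.Exo.row_defining h (Or.inr (Or.inr (Or.inr (Or.inr (Or.inr (Or.inr (Or.inl
        ⟨F, i1, i2, hF, Or.inr (Or.inr (Or.inr (Or.inl ⟨e⟩)))⟩)))))))
  · obtain ⟨F, i1, i2, ⟨e⟩⟩ := h1
    rcases natCast_ne_zero_or_charP hp F with hF | hF
    · exact Cfsg.Agent.H783.ExoX2.false_e8 h hF e
    · exact Cfsg.Agent.H766.Exo.row_defining h (Or.inr (Or.inr (Or.inr (Or.inr (Or.inr (Or.inr (Or.inl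
        ⟨F, i1, i2, hF, Or.inr (Or.inr (Or.inr (Or.inr ⟨e⟩)))⟩)))))))
  · obtain ⟨F, i1, i2, q, hq, hc, ⟨e⟩⟩ := h1
    rcases natCast_ne_zero_or_charP hp F with hF | hF
    · exact Cfsg.Agent.H783.ExoX2.false_2e6 h hF hq hc e
    · exact Cfsg.Agent.H766.Exo.row_defining h (Or.inr (Or.inr (Or.inr (Or.inr (Or.inr (Or.inr (Or.inr (Or.inl
        ⟨F, i1, i2, hF, q, hq, Or.inl ⟨hc, ⟨e⟩⟩⟩))))))))
  · obtain ⟨F, i1, i2, q, hq, hc, ⟨e⟩⟩ := h1
    rcases natCast_ne_zero_or_charP hp F with hF | hF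
    · exact Cfsg.Agent.H559.PearlyExc.false_twD4 h hq hc hF e
    · exact Cfsg.Agent.H766.Exo.row_defining h (Or.inr (Or.inr (Or.inr (Or.inr (Or.inr (Or.inr (Or.inr (Or.inl
        ⟨F, i1, i2, hF, q, hq, Or.inr ⟨hc, ⟨e⟩⟩⟩))))))))
  · -- Suzuki groups
    obtain ⟨F, i1, i2, m, hm, hc, ⟨e⟩⟩ := id h1
    rcases natCast_ne_zero_or_charP hp F with hF | hF
    · exact Cfsg.Agent.H559.PearlyExc.false_isoSz h hF e
    · have h2 : p = 2 := by
        obtain ⟨k, -, hk⟩ := FiniteField.card F p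
        rw [hc] at hk
        have h3 : p ∣ 2 ^ (2 * m + 1) := by
          rw [hk]
          exact dvd_pow_self p k.ne_zero
        exact (Nat.prime_dvd_prime_iff_eq hp Nat.prime_two).1 (hp.dvd_of_dvd_pow h3)
      have := h.odd
      omega
  · exact Cfsg.Agent.H766.Exo.false_of_ree h1 h
  · obtain ⟨F, i1, i2, m, hm, hc, ⟨e⟩⟩ := id h1
    rcases natCast_ne_zero_or_charP hp F with hF | hF
    · exact Cfsg.Agent.H559.PearlyExc.false_twF4 h hm hc hF e
    · have h2 : p = 2 := by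
        obtain ⟨k, -, hk⟩ := FiniteField.card F p
        rw [hc] at hk
        have h3 : p ∣ 2 ^ (2 * m + 1) := by
          rw [hk]
          exact dvd_pow_self p k.ne_zero
        exact (Nat.prime_dvd_prime_iff_eq hp Nat.prime_two).1 (hp.dvd_of_dvd_pow h3)
      have := h.odd
      omega
  · exact Cfsg.Agent.H269.ExoSpo.tits h h1

omit [IsSimpleGroup G] in
/-- the sporadic groups -/
theorem false_of_sporadic (h : Pearly p n G) (hG : IsSporadicGroup G) : False := by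
  rcases hG with h1 | h1 | h1 | h1 | h1 | h1 | h1 | h1 | h1 | h1 | h1 | h1 | h1 | h1 | h1 | h1 | h1 | h1 | h1 |
    h1 | h1 | h1 | h1 | h1 | h1 | h1
  · exact (Cfsg.Agent.H269.ExoSpo.m11 h h1).elim
  · exact (Cfsg.Agent.H269.ExoSpo.m12 h h1).elim
  · exact (Cfsg.Agent.H269.ExoSpo.m22 h h1).elim
  · exact (Cfsg.Agent.H269.ExoSpo.m23 h h1).elim
  · exact (Cfsg.Agent.H269.ExoSpo.m24 h h1).elim
  · exact (Cfsg.Agent.H269.ExoSpo.j1 h h1).elim
  · exact (Cfsg.Agent.H269.ExoSpo.j2 h h1).elim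
  · exact (Cfsg.Agent.H269.ExoSpo.j3 h h1).elim
  · exact (Cfsg.Agent.H269.ExoSpo.j4 h h1).elim
  · exact (Cfsg.Agent.H269.ExoSpo.co1 h h1).elim
  · exact (Cfsg.Agent.H269.ExoSpo.co2 h h1).elim
  · exact (Cfsg.Agent.H269.ExoSpo.co3 h h1).elim
  · exact (Cfsg.Agent.H269.ExoSpo.mcl h h1).elim
  · exact (Cfsg.Agent.H269.ExoSpo.hs h h1).elim
  · exact (Cfsg.Agent.H269.ExoSpo.suz h h1).elim
  · exact (Cfsg.Agent.H269.ExoSpo.he h h1).elim
  · exact (Cfsg.Agent.H269.ExoSpo.ru h h1).elim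
  · exact (Cfsg.Agent.H269.ExoSpo.on h h1).elim
  · exact (Cfsg.Agent.H978.Exo.row_Ly h h1).elim
  · exact (Cfsg.Agent.H978.Exo.row_Fi22 h h1).elim
  · exact (Cfsg.Agent.H978.Exo.row_Fi23 h h1).elim
  · exact (Cfsg.Agent.H978.Exo.row_Fi24 h h1).elim
  · exact (Cfsg.Agent.H978.Exo.row_HN h h1).elim
  · exact (Cfsg.Agent.H978.Exo.row_Th h h1).elim
  · exact (Cfsg.Agent.H978.Exo.row_B h h1).elim
  · exact (Cfsg.Agent.H978.Exo.Seven.row_M h h1).elim

/-- **The known finite simple groups are not `Pearly`.** -/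
theorem false_of_known (h : Pearly p n G) (hG : IsKnownSimple' G) : False := by
  rcases hG with h1 | h1 | h1 | h1 | h1 | h1 | h1 | h1 | h1 | h1
  · exact row_cyclic h h1
  · exact row_alternating h h1
  · exact false_of_classical h (Or.inl h1)
  · exact false_of_classical h (Or.inr (Or.inl h1))
  · exact false_of_classical h (Or.inr (Or.inr (Or.inl h1)))
  · exact false_of_classical h (Or.inr (Or.inr (Or.inr (Or.inl h1))))
  · exact false_of_classical h (Or.inr (Or.inr (Or.inr (Or.inr (Or.inl h1)))))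
  · exact false_of_classical h (Or.inr (Or.inr (Or.inr (Or.inr (Or.inr h1)))))
  · exact false_of_exceptional h h1
  · exact false_of_sporadic h h1

end

/-- **Finite simple groups are not `Pearly`.** -/
theorem false_of_simple {p n : ℕ} {G : Type u} [Group G] [Finite G] [IsSimpleGroup G] (h : Pearly p n G) : False :=
  false_of_known h (Cfsg.Agent.S0000.result)

/-- **Part (d) of S5268: exoticness.** -/
theorem Ctx.isExotic {Ω : Type u} [Group Ω] {S : Subgroup Ω} [Finite S] {F : FusionSystem S} {p n : ℕ}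
    [hp : Fact p.Prime] (c : Ctx F p n) (hsimple : F.IsSimple p) : F.IsExotic p := by
  refine ⟨c.hF, fun hreal => ?_⟩
  obtain ⟨G, i1, i2, i3, ι, hι, T, hT⟩ := Cfsg.Agent.S5343.result p c.hS F hsimple hreal
  exact false_of_simple (c.pearly hι hT)

end Cfsg.Agent.H789.Exo
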